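import Mathlib
import Groth.Agent.S2081
import Groth.Agent.S0414

/-!
# Unramified affine morphisms are finite etale over a non-empty open subset
-/

set_option autoImplicit false

universe u

open CategoryTheory CategoryTheory.Limits AlgebraicGeometry TopologicalSpace Topology

namespace GenInertiaLib

/-- In a quasi-finite morphism, points over a generic point of a component are generic points of components. -/
theorem closure_mem_irreducibleComponents {X Y : Scheme.{u}} (f : X ⟶ Y) [LocallyOfFiniteType f]
    [LocallyQuasiFinite f] {η : Y} (hη : closure {η} ∈ irreducibleComponents (Y : Type u)) {x : X}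
    (hx : f x = η) : closure {x} ∈ irreducibleComponents (X : Type u) := by
  refine ⟨isIrreducible_singleton.closure, fun Z hZ hsub => ?_⟩
  have hZc : IsClosed (closure Z) := isClosed_closure
  have hg := hZ.closure.isGenericPoint_genericPoint hZc
  let x' : X := hZ.closure.genericPoint
  have h1 : x' ⤳ x := hg.specializes (subset_closure (hsub (subset_closure rfl)))
  have h2 : f x' = η := by
    refine Groth.Agent.S2081.eq_of_specializes_generic hη ?_
    rw [← hx]
    exact h1.map f.continuous
  have hd := f.isDiscrete_preimage_singleton η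
  have h3 : x' = x := by
    haveI := hd.to_subtype
    have hs : (⟨x', h2⟩ : f ⁻¹' {η}) ⤳ ⟨x, hx⟩ := Topology.IsInducing.subtypeVal.specializes_iff.mp h1
    exact congrArg Subtype.val hs.eq
  rw [← h3]
  intro z hz
  exact hg.def.symm ▸ subset_closure hz

theorem restrict_of_le {P : MorphismProperty Scheme.{u}} [P.IsStableUnderBaseChange] {X Y : Scheme.{u}} {f : X ⟶ Y}
    {V V₁ : Y.Opens} (h : V ≤ V₁) (hf : P (f ∣_ V₁)) : P (f ∣_ V) := by
  have e : V₁.ι ''ᵁ (V₁.ι ⁻¹ᵁ V) = V := by
    rw [Scheme.Hom.image_preimage_eq_opensRange_inf, Scheme.Opens.opensRange_ι]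
    exact inf_eq_right.mpr h
  rw [← e, ← MorphismProperty.arrow_mk_iso_iff P (morphismRestrictRestrict f V₁ (V₁.ι ⁻¹ᵁ V))]
  exact MorphismProperty.of_isPullback (isPullback_morphismRestrict (f ∣_ V₁) _).flip hf

/-- An affine unramified morphism of finite type to a reduced Noetherian scheme is finite etale over a
non-empty open subset. -/
theorem exists_open_finite_etale {W U : Scheme.{u}} [IsNoetherian U] [IsReduced U] [Nonempty U] (i : W ⟶ U)
    [IsAffineHom i] [LocallyOfFiniteType i] [FormallyUnramified i] [LocallyQuasiFinite i] :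
    ∃ V : U.Opens, (V : Set U).Nonempty ∧ IsFinite (i ∣_ V) ∧ Etale (i ∣_ V) := by
  haveI : IsLocallyNoetherian W := LocallyOfFiniteType.isLocallyNoetherian i
  haveI : CompactSpace W := QuasiCompact.compactSpace_of_compactSpace i
  haveI : IsNoetherian W := {}
  let y : U := Classical.choice inferInstance
  have hC := irreducibleComponent_mem_irreducibleComponents y
  have hg := hC.1.isGenericPoint_genericPoint isClosed_irreducibleComponent
  have hη : closure {hC.1.genericPoint} ∈ irreducibleComponents (U : Type u) := by rw [hg.def]; exact hC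
  obtain ⟨V₁, hV₁, hfin⟩ := Groth.Agent.S2081.exists_finite_nhd i
    (NoetherianSpace.finite_irreducibleComponents) hC.1.genericPoint hη
    fun x hx => closure_mem_irreducibleComponents i hη hx
  obtain ⟨V₂, hV₂, hflat, hlfp⟩ := Groth.Agent.S0414.result i
  obtain ⟨v, hv⟩ := hV₂.inter_open_nonempty (V₁ : Set U) V₁.2 ⟨_, hV₁⟩
  refine ⟨V₁ ⊓ V₂, ⟨v, hv⟩, ?_, ?_⟩
  · exact restrict_of_le (P := @IsFinite) inf_le_left hfin
  · haveI : Flat (i ∣_ (V₁ ⊓ V₂)) := restrict_of_le (P := @Flat) inf_le_right hflat
    haveI : LocallyOfFinitePresentation (i ∣_ (V₁ ⊓ V₂)) :=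
      restrict_of_le (P := @LocallyOfFinitePresentation) inf_le_right hlfp
    haveI : FormallyUnramified (i ∣_ (V₁ ⊓ V₂)) :=
      MorphismProperty.of_isPullback (P := @FormallyUnramified) (isPullback_morphismRestrict i _).flip ‹FormallyUnramified i›
    exact Etale.iff_flat_and_formallyUnramified.mpr ⟨inferInstance, inferInstance, inferInstance⟩

end GenInertiaLib
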