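import Groth.Agent.AlgStLib.Inertia
import Groth.Agent.AlgStLib.Substack
import Groth.Agent.AlgStLib.PointsTop
import Groth.Agent.AlgStLib.SmLoc
import Groth.Agent.AlgSpLib.FpqcMore
import Groth.Agent.S10540

/-!
# The inertia of an open substack
-/

set_option autoImplicit false
set_option backward.isDefEq.respectTransparency false
set_option backward.isDefEq.respectTransparency.types false

universe u

open CategoryTheory CategoryTheory.Limits AlgebraicGeometry Opposite AlgSp FibCat FibLib AlgSpLib AlgStLib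

noncomputable section

namespace GenInertiaLib

variable {S : Scheme.{u}} {𝒳 𝒴 𝒳' 𝒴' : AlgSt.Cat S}

/-- Base change is not changed by a fully faithful functor out of the base. -/
lemma along_of_ff {f : 𝒳 ⥤ᵇ 𝒴} {f' : 𝒳' ⥤ᵇ 𝒴'} {a : 𝒳' ⥤ᵇ 𝒳} {b : 𝒴' ⥤ᵇ 𝒴} [b.toFunctor.Full]
    [b.toFunctor.Faithful] (ha : IsEquivOver a) (e : BasedFunctor.comp f' b ≅ BasedFunctor.comp a f)
    {G H : (Over S)ᵒᵖ ⥤ Type (u + 1)} (u' : Stk.ofPsh G ⥤ᵇ 𝒴') (φ : H ⟶ G)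
    (h : Along (BasedFunctor.comp u' b) f φ) : Along u' f' φ := by
  let M : fp u' f' ⥤ᵇ fp (BasedFunctor.comp u' b) f :=
    fpMap (a := BasedFunctor.id _) (b := a) (c := b) (Iso.refl _) e.symm
  have hM : IsEquivOver M := isEquivOver_fpMap _ _ (isEquivOver_id _) ha
  exact PRep.transport_back h hM (Iso.refl _)

lemma repByAlgSpWith_of_ff {P : MorphismProperty (Sp S)} {f : 𝒳 ⥤ᵇ 𝒴} {f' : 𝒳' ⥤ᵇ 𝒴'} {a : 𝒳' ⥤ᵇ 𝒳}
    {b : 𝒴' ⥤ᵇ 𝒴} [b.toFunctor.Full] [b.toFunctor.Faithful] (ha : IsEquivOver a)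
    (e : BasedFunctor.comp f' b ≅ BasedFunctor.comp a f) (h : AlgSt.RepByAlgSpWith P f) :
    AlgSt.RepByAlgSpWith P f' := by
  rw [repByAlgSpWith_iff] at h ⊢
  intro U u'
  obtain ⟨H, φ, hH, hφ, hP⟩ := h U (BasedFunctor.comp u' b)
  exact ⟨H, φ, hH, along_of_ff ha e u' φ.hom hφ, hP⟩

variable {Q : 𝒳.obj → Prop}

/-- The inertia of a full subcategory, inside the base change of the inertia. -/
def inertiaSubTo : inertia (toSelf (AlgSt.fullSub 𝒳 Q)) ⥤ᵇ inertia (toSelf 𝒳) where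
  toFunctor :=
    { obj := fun x => ⟨x.pt.obj, (ObjectProperty.ι Q).mapIso x.aut, x.map_aut⟩
      map := fun {a b} f => ⟨f.hom.hom, congrArg (fun t => t.hom) f.comm⟩ }
  w := rfl

def inertiaSub : inertia (toSelf (AlgSt.fullSub 𝒳 Q)) ⥤ᵇ
    fp (AlgSt.subIncl 𝒳 Q) (inertiaToBase (toSelf 𝒳)) :=
  fpLift (inertiaToBase (toSelf (AlgSt.fullSub 𝒳 Q))) inertiaSubTo (Iso.refl _)

variable [IsFibGrpd 𝒳.p] [IsFibGrpd (AlgSt.fullSub 𝒳 Q).p]

lemma isEquivOver_inertiaSub : IsEquivOver (inertiaSub (Q := Q)) := by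
  haveI : (inertiaSub (Q := Q)).toFunctor.Faithful := ⟨fun {a b} x y h => InertiaObj.hom_ext
    (congrArg (fun t => t.hom.fst) h)⟩
  haveI : (inertiaSub (Q := Q)).toFunctor.Full := ⟨fun {a b} k => by
    have w := k.hom.w
    change k.hom.fst.hom ≫ 𝟙 _ = 𝟙 _ ≫ k.hom.snd.hom at w
    erw [Category.comp_id, Category.id_comp] at w
    have hc := k.hom.snd.comm
    refine ⟨⟨k.hom.fst, ObjectProperty.hom_ext _ ?_⟩, fp_hom_ext rfl (InertiaObj.hom_ext ?_)⟩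
    · change a.aut.hom.hom ≫ k.hom.fst.hom = k.hom.fst.hom ≫ b.aut.hom.hom
      rw [w]
      exact hc
    · exact w⟩
  refine isEquivOver_of_vertEssSurj _ fun ξ => ?_
  obtain ⟨⟨z, A, i⟩, hi⟩ := ξ
  let σ : z ≅ z := ObjectProperty.isoMk _ (i ≪≫ A.aut ≪≫ i.symm)
  have hA : 𝒳.p.map A.aut.hom = 𝟙 (𝒳.p.obj A.pt) := A.map_aut
  have hσ : (toSelf (AlgSt.fullSub 𝒳 Q)).map σ.hom = 𝟙 _ := by
    change 𝒳.p.map (i.hom ≫ A.aut.hom ≫ i.inv) = 𝟙 _
    rw [Functor.map_comp, Functor.map_comp, hA]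
    erw [Category.id_comp, ← Functor.map_comp, Iso.hom_inv_id, CategoryTheory.Functor.map_id]
  let o : (inertia (toSelf (AlgSt.fullSub 𝒳 Q))).obj := ⟨z, σ, hσ⟩
  let j : inertiaSubTo.obj o ≅ A :=
    { hom := ⟨i.hom, by
        change (i.hom ≫ A.aut.hom ≫ i.inv) ≫ i.hom = i.hom ≫ A.aut.hom
        simp only [Category.assoc, Iso.inv_hom_id, Category.comp_id]⟩
      inv := ⟨i.inv, by
        change A.aut.hom ≫ i.inv = i.inv ≫ i.hom ≫ A.aut.hom ≫ i.inv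
        rw [Iso.inv_hom_id_assoc]⟩
      hom_inv_id := InertiaObj.hom_ext i.hom_inv_id
      inv_hom_id := InertiaObj.hom_ext i.inv_hom_id }
  let k : inertiaSub.obj o ≅ _ := fpIsoMk (x := inertiaSub.obj o) (y := ⟨⟨z, A, i⟩, hi⟩) (Iso.refl _) j (by
    change 𝟙 _ ≫ i.hom = 𝟙 _ ≫ i.hom
    rfl)
  refine ⟨o, k, ?_⟩
  haveI : (AlgSt.fullSub 𝒳 Q).p.IsHomLift (𝟙 (𝒳.p.obj z.obj)) k.hom.hom.fst := IsHomLift.id rfl
  exact isHomLift_of_fst (𝟙 (𝒳.p.obj z.obj)) k.hom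

/-- Finite etale inertia over a scheme covering the substack. -/
theorem repByAlgSpWith_inertia_sub (hΔ : AlgSt.RepByAlgSp1 (diag (toSelf 𝒳)))
    (hincl : AlgSt.RepByAlgSp1 (AlgSt.subIncl 𝒳 Q)) {V : Over S} (v₀ : AlgSt.ofSch V ⥤ᵇ 𝒳)
    (hQ : ∀ o, Q (v₀.obj o))
    (hv₁ : AlgSt.RepByAlgSpWith (LocP @Flat) v₀)
    (hv₂ : AlgSt.RepByAlgSpWith (LocP @LocallyOfFinitePresentation) v₀)
    (hsurj : ∀ z : (AlgSt.Points (AlgSt.fullSub 𝒳 Q)),
      AlgSt.Points.map (AlgSt.subIncl 𝒳 Q) z ∈ Set.range (AlgSt.Points.map v₀))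
    (hinj : Function.Injective (AlgSt.Points.map (AlgSt.subIncl 𝒳 Q)))
    {W : Over S} (i : W ⟶ V) (hi : Along v₀ (inertiaToBase (toSelf 𝒳)) ((yon S).map i).hom)
    (hfin : IsFinite i.left) (het : Etale i.left) :
    AlgSt.RepByAlgSpWith (IsFiniteMor ⊓ IsEtaleMor) (inertiaToBase (toSelf (AlgSt.fullSub 𝒳 Q))) := by
  let incl := AlgSt.subIncl 𝒳 Q
  haveI : incl.toFunctor.Full := inferInstanceAs (ObjectProperty.ι Q).Full
  haveI : incl.toFunctor.Faithful := inferInstanceAs (ObjectProperty.ι Q).Faithful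
  haveI : IsFibGrpd (inertia (toSelf 𝒳)).p :=
    FibLib.isFibGrpd_inertia (FibLib.preservesStronglyCartesian_of_isFibGrpd _)
  haveI : IsFibGrpd (AlgSt.ofSch V).p := Stk.isFibGrpd_ofPsh _
  let I := inertiaToBase (toSelf 𝒳)
  let g := FibCat.fpFst incl I
  let z : AlgSt.ofSch V ⥤ᵇ AlgSt.fullSub 𝒳 Q :=
    { toFunctor := ObjectProperty.lift Q v₀.toFunctor hQ
      w := v₀.w }
  have ez : BasedFunctor.comp z incl ≅ BasedFunctor.comp (BasedFunctor.id _) v₀ := Iso.refl _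
  have hI : AlgSt.RepByAlgSp1 I := by
    haveI := isFibGrpd_of_repByAlgSp (repByAlgSp_selfOver (S := S))
    haveI : IsFibGrpd (fp (toSelf 𝒳) (toSelf 𝒳)).p := isFibGrpd_fp
    exact (repByAlgSp1_iff_with_top _).mpr ((repByAlgSpWith_inertiaToBase_iff (toSelf 𝒳) ⊤).mpr
      (repByAlgSpWith_fpFst ⊤ _ ((repByAlgSp1_iff_with_top _).mp hΔ)))
  have hg : AlgSt.RepByAlgSp1 g :=
    (repByAlgSp1_iff_with_top _).mpr (repByAlgSpWith_fpFst ⊤ _ ((repByAlgSp1_iff_with_top _).mp hI))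
  have hz₁ : AlgSt.RepByAlgSpWith (LocP @Flat) z := repByAlgSpWith_of_ff (isEquivOver_id _) ez hv₁
  have hz₂ : AlgSt.RepByAlgSpWith (LocP @LocallyOfFinitePresentation) z :=
    repByAlgSpWith_of_ff (isEquivOver_id _) ez hv₂
  have hz₃ : AlgSt.RepByAlgSpWith IsSurjectiveMor z := by
    refine (surjective_iff_repByAlgSpWith (repByAlgSp1_of_with hz₁)).1 fun w => ?_
    obtain ⟨t, ht⟩ := hsurj w
    exact ⟨t, hinj (by rw [← ht, ← AlgStLib.map_comp]; rfl)⟩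
  have hloc : IsLocalOnBase IsFppfCover (IsFiniteMor ⊓ IsEtaleMor : MorphismProperty (Sp S)) :=
    isLocalOnBase_fppf_of_fpqc
      (isLocalOnBase_and (Groth.Agent.S10540.result S) (isLocalOnBase_fpqc_isEtaleMor S))
  have hbc : StableBC (IsFiniteMor ⊓ IsEtaleMor : MorphismProperty (Sp S)) :=
    fun _ _ _ _ h1 h2 h3 h4 _ _ _ _ sq h =>
      ⟨good_finite.bc h1 h2 h3 h4 _ _ _ _ sq h.1, good_isEtaleMor.bc h1 h2 h3 h4 _ _ _ _ sq h.2⟩
  have hPi : (IsFiniteMor ⊓ IsEtaleMor : MorphismProperty (Sp S)) ((yon S).map i) :=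
    ⟨isFiniteMor_iff.2 ((repWith_yon_map_iff (P := @IsFinite) i).2 hfin), (isEtaleMor_yon_map_iff i).2 het⟩
  haveI : IsFibGrpd (fp incl I).p := isFibGrpd_fp
  haveI : IsFibGrpd (fp z g).p := isFibGrpd_fp
  have h1 : AlgSt.RepByAlgSpWith (IsFiniteMor ⊓ IsEtaleMor) g := by
    refine repByAlgSpWith_of_fppf_cover hbc hloc hg hz₁ hz₂ hz₃ ?_
    refine repByAlgSpWith_of_forall
      ((repByAlgSp1_iff_with_top _).mpr (repByAlgSpWith_fpFst ⊤ _ ((repByAlgSp1_iff_with_top _).mp hg)))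
      fun T u H a hH ha => ?_
    have h2' := Along.of_fpFst ha
    have h2'' := Along.of_fpFst h2'
    have h2 : Along (BasedFunctor.comp u v₀) I a.hom := h2''
    obtain ⟨α⟩ := nonempty_iso_mapOf u
    let m : (yon S).obj T ⟶ (yon S).obj V := ObjectProperty.homMk (mapOf u)
    have h3 : Along (BasedFunctor.comp (Stk.ofPshMap m.hom) v₀) I
        (pullback.snd ((yon S).map i) m).hom :=
      hi.of_isPullback (isPullback_sheaf (IsPullback.of_hasPullback _ _))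
    obtain ⟨j, hj⟩ := along_hom_unique (h2.congr (whiskerRightIso' α v₀) (Iso.refl _)) h3
    have hK := isAlgSpace_pullback (IsAlgSpace.yon_obj W) (IsAlgSpace.yon_obj T) (IsAlgSpace.yon_obj V)
      ((yon S).map i) m
    rw [← hj]
    exact hbc.precomp_iso j _ hK (IsAlgSpace.yon_obj T)
      (hbc (IsAlgSpace.yon_obj W) (IsAlgSpace.yon_obj V) hK (IsAlgSpace.yon_obj T) _ m _ _
        (IsPullback.of_hasPullback _ _) hPi)
  exact (repByAlgSpWith_square_iff (f := g) (f' := inertiaToBase (toSelf (AlgSt.fullSub 𝒳 Q)))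
    (a := inertiaSub) (b := BasedFunctor.id _) isEquivOver_inertiaSub (isEquivOver_id _) (Iso.refl _) _).mp h1

end GenInertiaLib
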